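import Groth.Agent.QCGen.Basic
import Groth.Agent.QC.Localisation
import Groth.Agent.Devissage.Support
/-!
Restriction of quasi-coherent modules to a quasi-compact open is a localization.
-/

set_option autoImplicit false
set_option backward.isDefEq.respectTransparency false

universe u

open CategoryTheory CategoryTheory.Limits AlgebraicGeometry TopologicalSpace Opposite

noncomputable section

namespace Groth.Agent.QCGen

open QC WeakAssLib Devissage

variable {X : Scheme.{u}}

lemma isZero_of_sections {M : X.Modules} (h : ∀ (O : X.Opens) (s : Γ(M, O)), s = 0) : IsZero M := by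
  rw [IsZero.iff_id_eq_zero]
  apply Scheme.Modules.hom_ext
  intro O
  ext s
  exact (h O s).trans (h O _).symm

lemma eq_zero_of_isZero {M : X.Modules} (h : IsZero M) (O : X.Opens) (s : Γ(M, O)) : s = 0 := by
  have := congrArg (fun φ : M ⟶ M ↦ φ.app O s) (h.eq_of_src (𝟙 M) 0)
  exact this

lemma isZero_restrict_iff_support (M : X.Modules) (U : X.Opens) :
    IsZero ((Scheme.Modules.restrictFunctor U.ι).obj M) ↔ CohB1.support M ⊆ (↑U : Set X)ᶜ := by
  constructor
  · intro h x hx hxU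
    refine hx (subsingleton_of_forall_eq 0 fun m ↦ ?_)
    obtain ⟨W, hxW, a, rfl⟩ := M.presheaf.exists_germ_eq (x := x) m
    have hxW' : x ∈ U.ι ''ᵁ U.ι ⁻¹ᵁ W := by rw [image_preimage_ι]; exact ⟨hxU, hxW⟩
    have h0 : res M (U.ι.image_preimage_le W) a = 0 := eq_zero_of_isZero h (U.ι ⁻¹ᵁ W) _
    exact (mgerm_res M (U.ι.image_preimage_le W) hxW' a).symm.trans
      ((congrArg (mgerm M hxW') h0).trans (map_zero _))
  · intro h
    refine isZero_of_sections fun O s ↦ ?_
    refine (ext_germ M (U := U.ι ''ᵁ O) s fun x hx ↦ ?_)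
    obtain ⟨y, -, rfl⟩ := hx
    exact germ_eq_zero_of_notMem (N := M) _ s fun hy ↦ h hy y.2

lemma isIso_restrict_iff_support {M N : X.Modules} (φ : M ⟶ N) (U : X.Opens) :
    IsIso ((Scheme.Modules.restrictFunctor U.ι).map φ) ↔
      CohB1.support (kernel φ) ⊆ (↑U : Set X)ᶜ ∧ CohB1.support (cokernel φ) ⊆ (↑U : Set X)ᶜ := by
  let R := Scheme.Modules.restrictFunctor U.ι
  rw [← isZero_restrict_iff_support, ← isZero_restrict_iff_support,
    (PreservesKernel.iso R φ).isZero_iff, (PreservesCokernel.iso R φ).isZero_iff]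
  refine ⟨fun h ↦ ?_, fun ⟨h1, h2⟩ ↦ ?_⟩
  · haveI : IsIso (R.map φ) := h
    exact ⟨isZero_kernel_of_mono _, isZero_cokernel_of_epi _⟩
  · haveI : Mono (R.map φ) := Preadditive.mono_of_kernel_zero (h1.eq_of_src _ _)
    haveI : Epi (R.map φ) := Preadditive.epi_of_cokernel_zero (h2.eq_of_tgt _ _)
    exact isIso_of_mono_of_epi _

theorem isLocalization_restrict (X : Scheme.{u}) (U : X.Opens) [QuasiCompact U.ι] :
    (ObjectProperty.lift (QCohCat.isQCoh (↑U : Scheme.{u}))
      (ObjectProperty.ι (QCohCat.isQCoh X) ⋙ Scheme.Modules.restrictFunctor U.ι)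
      (fun M ↦ @Scheme.Modules.isQuasicoherent_restrictFunctor (↑U : Scheme.{u}) X U.ι inferInstance M.obj M.property)).IsLocalization
      (fun (A B : QCohCat.QCoh X) (f : A ⟶ B) ↦
        CohB1.support (kernel f.hom) ⊆ (↑U : Set X)ᶜ ∧ CohB1.support (cokernel f.hom) ⊆ (↑U : Set X)ᶜ) := by
  let G := ObjectProperty.lift (QCohCat.isQCoh (↑U : Scheme.{u}))
      (ObjectProperty.ι (QCohCat.isQCoh X) ⋙ Scheme.Modules.restrictFunctor U.ι)
      (fun M ↦ @Scheme.Modules.isQuasicoherent_restrictFunctor (↑U : Scheme.{u}) X U.ι inferInstance M.obj M.property)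
  let J : QCohCat.QCoh (↑U : Scheme.{u}) ⥤ QCohCat.QCoh X := ObjectProperty.lift _
    ((QCohCat.isQCoh (↑U : Scheme.{u})).ι ⋙ Scheme.Modules.pushforward U.ι)
    (fun M ↦ @QC.isQCoh_pushforward _ _ _ M.property U.ι _ _)
  let adj : G ⊣ J := Adjunction.restrictFullyFaithful (Scheme.Modules.restrictAdjunction U.ι)
    (QCohCat.isQCoh X).fullyFaithfulι (QCohCat.isQCoh (↑U : Scheme.{u})).fullyFaithfulι (Iso.refl _) (Iso.refl _)
  haveI : J.Full := inferInstance
  haveI : J.Faithful := inferInstance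
  have hW : (MorphismProperty.isomorphisms (QCohCat.QCoh (↑U : Scheme.{u}))).inverseImage G =
      (fun (A B : QCohCat.QCoh X) (f : A ⟶ B) ↦
        CohB1.support (kernel f.hom) ⊆ (↑U : Set X)ᶜ ∧ CohB1.support (cokernel f.hom) ⊆ (↑U : Set X)ᶜ) := by
    ext A B f
    change IsIso (G.map f) ↔ _
    rw [← isIso_iff_of_reflects_iso (G.map f) (QCohCat.isQCoh (↑U : Scheme.{u})).ι]
    exact isIso_restrict_iff_support f.hom U
  rw [← hW]
  exact adj.isLocalization

end Groth.Agent.QCGen
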