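import Groth.Agent.QCGen.Stable
import Groth.Agent.CohQC.QuasiAffine
import Groth.Agent.CohQC.Affineness
/-!
A set of quasi-coherent modules through which every section of every quasi-coherent module factors
(Gabber).
-/

set_option autoImplicit false

universe u

open CategoryTheory CategoryTheory.Limits AlgebraicGeometry TopologicalSpace Opposite

set_option backward.isDefEq.respectTransparency false

noncomputable section

namespace Groth.Agent.QCGen

open QC

variable {X : Scheme.{u}}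

/-- A quasi-coherent module with sections indexed by `Idx X` spanning on each affine open. -/
structure Small (X : Scheme.{u}) where
  M : X.Modules
  qc : Coh.IsQCoh M
  g : ∀ U : X.affineOpens, Idx X → Γ(M, U.1)
  span : ∀ U : X.affineOpens, Submodule.span Γ(X, U.1) (Set.range (g U)) = ⊤

namespace Small

variable (P : Small X)

/-- Combinations of the generators of `V`. -/
abbrev comb (V : X.affineOpens) : (Idx X →₀ Γ(X, V.1)) →ₗ[Γ(X, V.1)] Γ(P.M, V.1) :=
  Finsupp.linearCombination Γ(X, V.1) (P.g V)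

/-- Combinations of the restricted generators of `U`. -/
abbrev combRes {U V : X.affineOpens} (h : V.1 ≤ U.1) :
    (Idx X →₀ Γ(X, V.1)) →ₗ[Γ(X, V.1)] Γ(P.M, V.1) :=
  Finsupp.linearCombination Γ(X, V.1) (fun p ↦ res P.M h (P.g U p))

/-- All linear relations between the generators of nested affine opens. -/
def rel (U V : X.affineOpens) : Set ((Idx X →₀ Γ(X, V.1)) × (Idx X →₀ Γ(X, V.1))) :=
  {ab | ∃ h : V.1 ≤ U.1, P.combRes h ab.1 = P.comb V ab.2}

lemma mem_rel {U V : X.affineOpens} (h : V.1 ≤ U.1) (a b : Idx X →₀ Γ(X, V.1)) :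
    (a, b) ∈ P.rel U V ↔ P.combRes h a = P.comb V b :=
  ⟨fun ⟨_, e⟩ ↦ e, fun e ↦ ⟨h, e⟩⟩

lemma comb_surjective (V : X.affineOpens) : Function.Surjective (P.comb V) := by
  rw [← LinearMap.range_eq_top, Finsupp.range_linearCombination, P.span]

lemma combRes_surjective {U V : X.affineOpens} (h : V.1 ≤ U.1) :
    Function.Surjective (P.combRes h) := by
  haveI := P.qc
  rw [← LinearMap.range_eq_top, Finsupp.range_linearCombination, eq_top_iff]
  intro t _
  obtain ⟨l, hl⟩ := exists_lift_list (F := P.M) h t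
  refine Submodule.span_le.mpr ?_ hl
  rintro _ ⟨a, -, rfl⟩
  have := res_mem_span (F := P.M) h (show a ∈ Submodule.span Γ(X, U.1) (Set.range (P.g U)) by
    rw [P.span]; exact Submodule.mem_top)
  rwa [← Set.range_comp] at this

end Small

/-- Sections indexed by `Idx X` in a biproduct. -/
def pairGen (P Q : Small X) (U : X.affineOpens) (p : Idx X) : Γ(P.M ⊞ Q.M, U.1) :=
  (CohQC.biprodSections P.M Q.M U.1).symm (P.g U p, Q.g U p)

lemma fst_pairGen (P Q : Small X) (U : X.affineOpens) (p : Idx X) :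
    (biprod.fst : P.M ⊞ Q.M ⟶ _).app U.1 (pairGen P Q U p) = P.g U p :=
  congrArg Prod.fst ((CohQC.biprodSections P.M Q.M U.1).apply_symm_apply (P.g U p, Q.g U p))

lemma snd_pairGen (P Q : Small X) (U : X.affineOpens) (p : Idx X) :
    (biprod.snd : P.M ⊞ Q.M ⟶ _).app U.1 (pairGen P Q U p) = Q.g U p :=
  congrArg Prod.snd ((CohQC.biprodSections P.M Q.M U.1).apply_symm_apply (P.g U p, Q.g U p))

lemma biprod_ext {A B : X.Modules} {W : X.Opens} {s t : Γ(A ⊞ B, W)}
    (h₁ : (biprod.fst : A ⊞ B ⟶ _).app W s = (biprod.fst : A ⊞ B ⟶ _).app W t)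
    (h₂ : (biprod.snd : A ⊞ B ⟶ _).app W s = (biprod.snd : A ⊞ B ⟶ _).app W t) : s = t :=
  (CohQC.biprodSections A B W).injective (Prod.ext h₁ h₂)

section Iso

variable {P Q : Small X} (hPQ : ∀ U V : X.affineOpens, P.rel U V = Q.rel U V)

include hPQ in
lemma exists_coeff_down {U V : X.affineOpens} (h : V.1 ≤ U.1) (p : Idx X) :
    ∃ b, res P.M h (P.g U p) = P.comb V b ∧ res Q.M h (Q.g U p) = Q.comb V b := by
  obtain ⟨b, hb⟩ := P.comb_surjective V (res P.M h (P.g U p))
  have : (Finsupp.single p 1, b) ∈ P.rel U V := (P.mem_rel h _ _).2 (by simp [hb])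
  rw [hPQ] at this
  exact ⟨b, hb.symm, by simpa using (Q.mem_rel h _ _).1 this⟩

include hPQ in
lemma exists_coeff_up {U V : X.affineOpens} (h : V.1 ≤ U.1) (p : Idx X) :
    ∃ a, P.combRes h a = P.g V p ∧ Q.combRes h a = Q.g V p := by
  obtain ⟨a, ha⟩ := P.combRes_surjective h (P.g V p)
  have : (a, Finsupp.single p 1) ∈ P.rel U V := (P.mem_rel h _ _).2 (by simp [ha])
  rw [hPQ] at this
  exact ⟨a, ha, by simpa using (Q.mem_rel h _ _).1 this⟩

/-- The graph of the identification. -/
def graph : Stable (P.M ⊞ Q.M) where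
  T U := Set.range (pairGen P Q U)
  down := by
    rintro U V h _ ⟨p, rfl⟩
    obtain ⟨b, hb, hb'⟩ := exists_coeff_down hPQ h p
    rw [Finsupp.mem_span_range_iff_exists_finsupp]
    refine ⟨b, biprod_ext ?_ ?_⟩
    · rw [← app_res, fst_pairGen, hb]
      change appₗ biprod.fst V.1 _ = _
      simp only [map_finsuppSum, map_smul, appₗ_apply, fst_pairGen, Small.comb, Finsupp.linearCombination_apply]
    · rw [← app_res, snd_pairGen, hb']
      change appₗ biprod.snd V.1 _ = _
      simp only [map_finsuppSum, map_smul, appₗ_apply, snd_pairGen, Small.comb, Finsupp.linearCombination_apply]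
  up := by
    rintro U V h _ ⟨p, rfl⟩
    obtain ⟨a, ha, ha'⟩ := exists_coeff_up hPQ h p
    rw [← Set.range_comp, Finsupp.mem_span_range_iff_exists_finsupp]
    refine ⟨a, biprod_ext ?_ ?_⟩
    · rw [fst_pairGen, ← ha]
      change appₗ biprod.fst V.1 _ = _
      simp only [map_finsuppSum, map_smul, appₗ_apply, Function.comp_apply, ← app_res, fst_pairGen, Small.combRes, Finsupp.linearCombination_apply]
    · rw [snd_pairGen, ← ha']
      change appₗ biprod.snd V.1 _ = _
      simp only [map_finsuppSum, map_smul, appₗ_apply, Function.comp_apply, ← app_res, snd_pairGen, Small.combRes, Finsupp.linearCombination_apply]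

lemma isIso_of_bijective_affine {M N : X.Modules} (hM : Coh.IsQCoh M) (hN : Coh.IsQCoh N) (φ : M ⟶ N)
    (h : ∀ U : X.affineOpens, Function.Bijective (φ.app U.1)) : IsIso φ :=
  isIso_of_restrict_cover (fun U : X.affineOpens ↦ U.2.fromSpec) (fun x ↦ by
    obtain ⟨U, hU, hx⟩ := exists_affine_mem x
    exact ⟨⟨U, hU⟩, by rw [IsAffineOpen.range_fromSpec]; exact hx⟩) φ
    (fun U ↦ isIso_restrict_of_bijective U.2 hM hN φ (h U))

variable (P Q) in
lemma qc_biprod : Coh.IsQCoh (P.M ⊞ Q.M) := CohQC.isQCoh_biprod P.qc Q.qc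

lemma comb_pair_fst (U : X.affineOpens) (a : Idx X →₀ Γ(X, U.1)) :
    (biprod.fst : P.M ⊞ Q.M ⟶ _).app U.1 (Finsupp.linearCombination Γ(X, U.1) (pairGen P Q U) a) =
      P.comb U a := by
  change appₗ biprod.fst U.1 _ = _
  simp only [Finsupp.linearCombination_apply, map_finsuppSum, map_smul, appₗ_apply, fst_pairGen]

lemma comb_pair_snd (U : X.affineOpens) (a : Idx X →₀ Γ(X, U.1)) :
    (biprod.snd : P.M ⊞ Q.M ⟶ _).app U.1 (Finsupp.linearCombination Γ(X, U.1) (pairGen P Q U) a) =
      Q.comb U a := by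
  change appₗ biprod.snd U.1 _ = _
  simp only [Finsupp.linearCombination_apply, map_finsuppSum, map_smul, appₗ_apply, snd_pairGen]

include hPQ in
theorem nonempty_iso : Nonempty (P.M ≅ Q.M) := by
  haveI : (P.M ⊞ Q.M).IsQuasicoherent := qc_biprod P Q
  let S := graph hPQ
  have hker : ∀ (U : X.affineOpens) (a : Idx X →₀ Γ(X, U.1)), P.comb U a = 0 ↔ Q.comb U a = 0 := by
    intro U a
    have k : ∀ R : Small X, (0, a) ∈ R.rel U U ↔ R.comb U a = 0 := fun R ↦ by
      rw [R.mem_rel le_rfl, map_zero, eq_comm]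
    rw [← k P, ← k Q, hPQ]
  have hbij : ∀ U : X.affineOpens, Function.Bijective ((S.sub.ι ≫ biprod.fst).app U.1) ∧
      Function.Bijective ((S.sub.ι ≫ biprod.snd).app U.1) := by
    intro U
    have hmem : ∀ s : Γ(S.sub.toModules, U.1), ∃ a,
        Finsupp.linearCombination Γ(X, U.1) (pairGen P Q U) a = S.sub.ι.app U.1 s := by
      intro s
      have hs : s.1 ∈ S.sub.obj U.1 := s.2
      rw [S.obj_eq] at hs
      have hs' : s.1 ∈ Submodule.span Γ(X, U.1) (Set.range (pairGen P Q U)) := hs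
      rw [← Finsupp.range_linearCombination] at hs'
      exact hs'
    have hin : ∀ a, ∃ s : Γ(S.sub.toModules, U.1),
        S.sub.ι.app U.1 s = Finsupp.linearCombination Γ(X, U.1) (pairGen P Q U) a := by
      intro a
      refine (Sub.range_ι_app _ _ _).2 ?_
      rw [S.obj_eq]
      change _ ∈ Submodule.span Γ(X, U.1) (Set.range (pairGen P Q U))
      rw [← Finsupp.range_linearCombination]
      exact ⟨a, rfl⟩
    refine ⟨⟨?_, fun t ↦ ?_⟩, ⟨?_, fun t ↦ ?_⟩⟩
    · rw [injective_iff_map_eq_zero]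
      intro s hs
      obtain ⟨a, ha⟩ := hmem s
      change (biprod.fst : P.M ⊞ Q.M ⟶ _).app U.1 (S.sub.ι.app U.1 s) = 0 at hs
      rw [← ha, comb_pair_fst] at hs
      refine S.sub.ι_app_injective U.1 ?_
      rw [map_zero, ← ha]
      refine biprod_ext ?_ ?_
      · rw [comb_pair_fst, map_zero, hs]
      · rw [comb_pair_snd, map_zero]; exact (hker U a).1 hs
    · obtain ⟨a, rfl⟩ := P.comb_surjective U t
      obtain ⟨s, hs⟩ := hin a
      refine ⟨s, ?_⟩
      change (biprod.fst : P.M ⊞ Q.M ⟶ _).app U.1 (S.sub.ι.app U.1 s) = _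
      rw [hs, comb_pair_fst]
    · rw [injective_iff_map_eq_zero]
      intro s hs
      obtain ⟨a, ha⟩ := hmem s
      change (biprod.snd : P.M ⊞ Q.M ⟶ _).app U.1 (S.sub.ι.app U.1 s) = 0 at hs
      rw [← ha, comb_pair_snd] at hs
      refine S.sub.ι_app_injective U.1 ?_
      rw [map_zero, ← ha]
      refine biprod_ext ?_ ?_
      · rw [comb_pair_fst, map_zero]; exact (hker U a).2 hs
      · rw [comb_pair_snd, map_zero, hs]
    · obtain ⟨a, rfl⟩ := Q.comb_surjective U t
      obtain ⟨s, hs⟩ := hin a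
      refine ⟨s, ?_⟩
      change (biprod.snd : P.M ⊞ Q.M ⟶ _).app U.1 (S.sub.ι.app U.1 s) = _
      rw [hs, comb_pair_snd]
  haveI := isIso_of_bijective_affine S.isQCoh P.qc _ fun U ↦ (hbij U).1
  haveI := isIso_of_bijective_affine S.isQCoh Q.qc _ fun U ↦ (hbij U).2
  exact ⟨(asIso (S.sub.ι ≫ biprod.fst)).symm ≪≫ asIso (S.sub.ι ≫ biprod.snd)⟩

end Iso

/-- The possible relation data. -/
abbrev Datum (X : Scheme.{u}) : Type u :=
  ∀ U V : X.affineOpens, Set ((Idx X →₀ Γ(X, V.1)) × (Idx X →₀ Γ(X, V.1)))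

/-- Index of the generating family. -/
def GenIdx (X : Scheme.{u}) : Type u := {d : Datum X // ∃ P : Small X, P.rel = d}

/-- The generating family. -/
def genObj (d : GenIdx X) : Small X := d.2.choose

/-- Every section of a quasi-coherent module factors through the generating family. -/
theorem exists_gen {F : X.Modules} (hF : Coh.IsQCoh F) (U₀ : X.affineOpens) (s₀ : Γ(F, U₀.1)) :
    ∃ (d : GenIdx X) (φ : (genObj d).M ⟶ F), s₀ ∈ Set.range (φ.app U₀.1) := by
  haveI : F.IsQuasicoherent := hF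
  let S := saturation U₀ s₀
  have hg : ∀ (U : X.affineOpens) (w : Idx X), gen U₀ s₀ U w ∈ S.sub.obj U.1 := fun U w ↦ by
    rw [S.obj_eq]; exact Submodule.subset_span ⟨w, rfl⟩
  have hspan : ∀ U : X.affineOpens, Submodule.span Γ(X, U.1)
      (Set.range (fun w ↦ (⟨gen U₀ s₀ U w, hg U w⟩ : S.sub.obj U.1))) = ⊤ := by
    intro U
    apply Submodule.map_injective_of_injective (f := (S.sub.obj U.1).subtype) Subtype.val_injective
    rw [Submodule.map_span, ← Set.range_comp, Submodule.map_subtype_top]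
    exact (S.obj_eq U).symm
  let P : Small X := ⟨S.sub.toModules, S.isQCoh,
    fun U w ↦ (⟨gen U₀ s₀ U w, hg U w⟩ : S.sub.obj U.1), hspan⟩
  let d : GenIdx X := ⟨P.rel, P, rfl⟩
  obtain ⟨e⟩ := nonempty_iso (P := genObj d) (Q := P) fun U V ↦ congrFun (congrFun d.2.choose_spec U) V
  obtain ⟨t, ht⟩ := (Sub.range_ι_app _ _ _).2 (mem_saturation U₀ s₀)
  refine ⟨d, e.hom ≫ S.sub.ι, (e.inv).app U₀.1 t, ?_⟩
  change ((e.inv ≫ e.hom ≫ S.sub.ι) : P.M ⟶ F).app U₀.1 t = s₀
  rw [e.inv_hom_id_assoc]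
  exact ht

end Groth.Agent.QCGen
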