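import Groth.Prelude.Def_QCohCat
import Groth.Agent.QCGen.Separator
import Groth.Agent.DerPush.Basic
import Mathlib.CategoryTheory.Abelian.Subcategory
import Mathlib.CategoryTheory.Adjunction.AdjointFunctorTheorems
import Mathlib.CategoryTheory.Abelian.GrothendieckCategory.EnoughInjectives
/-!
The category of quasi-coherent modules on any scheme is Grothendieck abelian.
-/

set_option autoImplicit false

universe u u'

open CategoryTheory CategoryTheory.Limits AlgebraicGeometry TopologicalSpace Opposite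

set_option backward.isDefEq.respectTransparency false

noncomputable section

namespace Groth.Agent.QCGen

open QC

variable (X : Scheme.{u})

instance : (QCohCat.isQCoh X).IsClosedUnderIsomorphisms := ⟨fun e h ↦ QC.isQCoh_of_iso e h⟩

lemma prop_zero {Z : X.Modules} (hZ : IsZero Z) : QCohCat.isQCoh X Z := by
  let F : Discrete PEmpty.{u + 1} ⥤ X.Modules := Functor.empty _
  have h0 : IsZero (colimit F) := by
    rw [IsZero.iff_id_eq_zero]
    exact colimit.hom_ext fun j ↦ j.as.elim
  exact QC.isQCoh_of_iso (h0.iso hZ) (QC.isQCoh_colimit F fun j ↦ j.as.elim)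

instance : (QCohCat.isQCoh X).ContainsZero where
  exists_zero := ⟨_, isZero_zero _, prop_zero X (isZero_zero _)⟩

instance : (QCohCat.isQCoh X).IsClosedUnderKernels where
  kernels_le := by
    rintro _ ⟨f, k, hk, hf⟩
    exact QC.isQCoh_of_iso (limit.isoLimitCone ⟨k, hk⟩) (QC.isQCoh_kernel hf.1 hf.2 f)

instance : (QCohCat.isQCoh X).IsClosedUnderCokernels where
  cokernels_le := by
    rintro _ ⟨f, k, hk, hf⟩
    exact QC.isQCoh_of_iso (colimit.isoColimitCocone ⟨k, hk⟩) (QC.isQCoh_cokernel hf.1 hf.2 f)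

instance closedUnderColimits (J : Type u) [SmallCategory J] :
    (QCohCat.isQCoh X).IsClosedUnderColimitsOfShape J where
  colimitsOfShape_le := by
    rintro M ⟨p⟩
    exact QC.isQCoh_of_iso ((colimit.isColimit p.diag).coconePointUniqueUpToIso p.isColimit)
      (QC.isQCoh_colimit p.diag p.prop_diag_obj)

instance : (QCohCat.isQCoh X).IsClosedUnderFiniteProducts :=
  ObjectProperty.IsClosedUnderFiniteProducts.of_isClosedUnderLimitsOfShape.{u} fun J _ ↦ by
    refine ⟨fun M hM ↦ ?_⟩
    obtain ⟨p⟩ := hM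
    let f : J → X.Modules := fun j ↦ p.diag.obj ⟨j⟩
    haveI : HasFiniteBiproducts X.Modules := Abelian.hasFiniteBiproducts
    haveI : HasBiproduct f := inferInstance
    let e₁ : limit (Discrete.functor f) ≅ limit p.diag :=
      HasLimit.isoOfNatIso (Discrete.natIso fun _ ↦ Iso.refl _)
    let e₂ : limit p.diag ≅ M := (limit.isLimit p.diag).conePointUniqueUpToIso p.isLimit
    let e₀ : colimit (Discrete.functor f) ≅ limit (Discrete.functor f) :=
      (biproduct.isoCoproduct f).symm ≪≫ biproduct.isoProduct f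
    exact QC.isQCoh_of_iso (e₀ ≪≫ e₁ ≪≫ e₂) (QC.isQCoh_colimit _ fun j ↦ p.prop_diag_obj _)

instance : HasColimits (QCohCat.QCoh X) := ⟨fun _ _ ↦ inferInstance⟩

instance : PreservesColimits (QCohCat.isQCoh X).ι := ⟨fun {_ _} ↦ inferInstance⟩

instance : PreservesFiniteLimits (QCohCat.isQCoh X).ι :=
  haveI : ∀ {M N : (QCohCat.isQCoh X).FullSubcategory} (f : M ⟶ N),
      PreservesLimit (parallelPair f 0) (QCohCat.isQCoh X).ι := fun f ↦
    (QCohCat.isQCoh X).preservesKernels_ι f
  (QCohCat.isQCoh X).ι.preservesFiniteLimits_of_preservesKernels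

instance : ReflectsFiniteLimits (QCohCat.isQCoh X).ι :=
  ⟨fun _ _ _ ↦ inferInstance⟩

instance : AB5 (QCohCat.QCoh X) where
  ofShape J _ _ := HasExactColimitsOfShape.domain_of_functor J (QCohCat.isQCoh X).ι

/-- The generators. -/
def sep (d : GenIdx X) : QCohCat.QCoh X := ⟨(genObj d).M, (genObj d).qc⟩

theorem isSeparating : ObjectProperty.IsSeparating (ObjectProperty.ofObj (sep X)) := by
  intro M N f g hfg
  apply ObjectProperty.hom_ext
  apply Scheme.Modules.hom_ext
  intro O
  ext s
  refine section_eq_of_locally fun x hx ↦ ?_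
  obtain ⟨U, hU, hxU, hle⟩ := exists_isAffineOpen_mem_and_subset hx
  refine ⟨U, hle, hxU, ?_⟩
  obtain ⟨d, φ, t, ht⟩ := exists_gen M.property ⟨U, hU⟩ (res M.obj hle s)
  rw [app_res, app_res, ← ht]
  exact congrArg (fun q : (genObj d).M ⟶ N.obj ↦ q.app U t) (congrArg InducedCategory.Hom.hom
    (hfg (sep X d) (ObjectProperty.ofObj_apply _ d) (ObjectProperty.homMk φ)))

instance : HasSeparator (QCohCat.QCoh X) :=
  ⟨∐ sep X, (isSeparator_sigma _).2 (isSeparating X)⟩

instance isGrothendieckAbelian : IsGrothendieckAbelian.{u} (QCohCat.QCoh X) where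

instance enoughInjectives : EnoughInjectives (QCohCat.QCoh X) :=
  IsGrothendieckAbelian.enoughInjectives

theorem isLeftAdjoint {A : Type u'} [Category.{u} A] (F : QCohCat.QCoh X ⥤ A)
    [PreservesColimitsOfSize.{u, u} F] : F.IsLeftAdjoint :=
  isLeftAdjoint_of_preservesColimits_of_isSeparating (isSeparating X) F

end Groth.Agent.QCGen
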