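import Mathlib
/-!
Bounded below derived categories of a coreflective abelian subcategory whose inclusion preserves
injectives.
-/

set_option autoImplicit false
set_option maxHeartbeats 1000000
set_option backward.isDefEq.respectTransparency false
set_option backward.isDefEq.respectTransparency.types false

universe w w' v v' u u'

open CategoryTheory CategoryTheory.Limits

namespace Groth.Agent.QCGen.Plus

variable {A : Type u} [Category.{v} A] [Abelian A] {B : Type u'} [Category.{v'} B] [Abelian B]
  (i : A ⥤ B) [i.Additive] [i.Full] [i.Faithful] [PreservesFiniteLimits i] [PreservesFiniteColimits i]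
  (hinj : ∀ J : A, Injective J → Injective (i.obj J))

/-- Exactness of a bounded below complex of injectives tested on a class of objects containing its
cohomology. -/
theorem exactAt_of_factor (C : CochainComplex B ℤ) (lo : ℤ) (hlo : ∀ n < lo, IsZero (C.X n))
    (hI : ∀ n, Injective (C.X n)) (P : ObjectProperty B) (hP : ∀ n, P (C.homology n))
    (hfac : ∀ (n : ℤ) (H : B), P H → ∀ f : H ⟶ C.X (n + 1), f ≫ C.d (n + 1) (n + 1 + 1) = 0 →
      ∃ g : H ⟶ C.X n, g ≫ C.d n (n + 1) = f) :
    ∀ n, C.ExactAt n := by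
  have key : ∀ k : ℕ, C.ExactAt (lo - 1 + k) ∧ Injective (C.cycles (lo - 1 + k)) := by
    intro k
    induction k with
    | zero =>
      have hz : IsZero (C.X (lo - 1 + ((0 : ℕ) : ℤ))) := hlo _ (by simp)
      refine ⟨?_, ?_⟩
      · rw [HomologicalComplex.exactAt_iff]; exact ShortComplex.exact_of_isZero_X₂ _ hz
      · have hz' : IsZero (C.cycles (lo - 1 + ((0 : ℕ) : ℤ))) := IsZero.of_mono (C.iCycles _) hz
        exact ⟨fun g f _ => ⟨0, hz'.eq_of_tgt _ _⟩⟩
    | succ k ih =>
      obtain ⟨-, hZ⟩ := ih
      generalize hn : lo - 1 + (k : ℤ) = n at hZ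
      rw [show lo - 1 + ((k + 1 : ℕ) : ℤ) = n + 1 by push_cast; omega]
      haveI := hI n
      haveI := hI (n + 1)
      let r := Injective.factorThru (𝟙 (C.cycles n)) (C.iCycles n)
      have hr : C.iCycles n ≫ r = 𝟙 _ := Injective.comp_factorThru _ _
      let t := cokernel.desc (C.iCycles n) (𝟙 _ - r ≫ C.iCycles n)
        (by rw [Preadditive.comp_sub, Category.comp_id, reassoc_of% hr, sub_self])
      have ht : t ≫ cokernel.π (C.iCycles n) = 𝟙 _ := by
        rw [← cancel_epi (cokernel.π (C.iCycles n)), cokernel.π_desc_assoc, Preadditive.sub_comp,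
          Category.assoc, cokernel.condition, comp_zero, sub_zero, Category.id_comp, Category.comp_id]
      haveI : Injective (cokernel (C.iCycles n)) := Retract.injective ⟨t, cokernel.π _, ht⟩
      let p : cokernel (C.iCycles n) ⟶ C.cycles (n + 1) := cokernel.desc _ (C.toCycles n (n + 1))
        (by rw [← cancel_mono (C.iCycles (n + 1)), Category.assoc, HomologicalComplex.toCycles_i,
          HomologicalComplex.iCycles_d, zero_comp])
      haveI : Mono p := by
        haveI : Mono (p ≫ C.iCycles (n + 1)) := by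
          let S := ShortComplex.mk (C.iCycles n) (C.d n (n + 1)) (C.iCycles_d _ _)
          have hS : S.Exact := ShortComplex.exact_of_f_is_kernel S
            (C.cyclesIsKernel n (n + 1) (by simp))
          have h1 : Mono (cokernel.desc S.f S.g S.zero) := S.exact_iff_mono_cokernel_desc.1 hS
          have h2 : p ≫ C.iCycles (n + 1) = cokernel.desc S.f S.g S.zero := by
            rw [← cancel_epi (cokernel.π (C.iCycles n))]
            simp [p, S]
          rw [h2]; exact h1
        exact mono_of_mono p (C.iCycles (n + 1))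
      let q := Injective.factorThru (𝟙 (cokernel (C.iCycles n))) p
      have hq : p ≫ q = 𝟙 _ := Injective.comp_factorThru _ _
      have hkill : C.toCycles n (n + 1) ≫ (𝟙 _ - q ≫ p) = 0 := by
        have : C.toCycles n (n + 1) = cokernel.π (C.iCycles n) ≫ p := (cokernel.π_desc _ _ _).symm
        rw [this, Category.assoc, Preadditive.comp_sub, Category.comp_id, reassoc_of% hq, sub_self,
          comp_zero]
      let hH := C.homologyIsCokernel n (n + 1) (by simp)
      let sec : C.homology (n + 1) ⟶ C.cycles (n + 1) :=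
        (CokernelCofork.IsColimit.desc' hH (𝟙 _ - q ≫ p) hkill).1
      have hsec : C.homologyπ (n + 1) ≫ sec = 𝟙 _ - q ≫ p :=
        (CokernelCofork.IsColimit.desc' hH (𝟙 _ - q ≫ p) hkill).2
      have hp0 : p ≫ C.homologyπ (n + 1) = 0 := by
        rw [← cancel_epi (cokernel.π (C.iCycles n)), cokernel.π_desc_assoc,
          HomologicalComplex.toCycles_comp_homologyπ, comp_zero]
      have hs1 : sec ≫ C.homologyπ (n + 1) = 𝟙 _ := by
        rw [← cancel_epi (C.homologyπ (n + 1)), reassoc_of% hsec, Preadditive.sub_comp, Category.id_comp,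
          Category.assoc, hp0, comp_zero, sub_zero, Category.comp_id]
      obtain ⟨g, hg⟩ := hfac n _ (hP (n + 1)) (sec ≫ C.iCycles (n + 1))
        (by rw [Category.assoc, HomologicalComplex.iCycles_d, comp_zero])
      have hg' : g ≫ C.toCycles n (n + 1) = sec := by
        rw [← cancel_mono (C.iCycles (n + 1)), Category.assoc, HomologicalComplex.toCycles_i, hg]
      have hz : IsZero (C.homology (n + 1)) := by
        rw [IsZero.iff_id_eq_zero, ← hs1, ← hg', Category.assoc,
          HomologicalComplex.toCycles_comp_homologyπ, comp_zero]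
      refine ⟨(C.exactAt_iff_isZero_homology _).2 hz, ?_⟩
      have hqp : q ≫ p = 𝟙 _ := by
        have h1 := hsec
        rw [hz.eq_of_src sec 0, comp_zero] at h1
        exact (sub_eq_zero.1 h1.symm).symm
      exact Retract.injective ⟨q, p, hqp⟩
  intro n
  rcases lt_or_ge n lo with h | h
  · rw [HomologicalComplex.exactAt_iff]; exact ShortComplex.exact_of_isZero_X₂ _ (hlo n h)
  · obtain ⟨k, hk⟩ : ∃ k : ℕ, n = lo - 1 + k := ⟨(n - lo + 1).toNat, by omega⟩
    exact hk ▸ (key k).1

variable [HasDerivedCategory.{w} A] [HasDerivedCategory.{w'} B]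

include hinj in
/-- Hom into a cohomologically bounded below object is computed in the subcategory. -/
theorem map_bijective [EnoughInjectives A] (M N : DerivedCategory A) (b : ℤ) (hN : N.IsGE b) :
    Function.Bijective (fun f : M ⟶ N => i.mapDerivedCategory.map f) := by
  haveI := hN
  obtain ⟨N', hN', ⟨eN⟩⟩ := DerivedCategory.exists_iso_Q_obj_of_isGE N b
  obtain ⟨J, j, hj, hJinj, hJge⟩ := CochainComplex.Plus.modelCategoryQuillen.exists_quasiIso_injective N' b
  haveI : QuasiIso j := by assumption
  let eJ : N ≅ DerivedCategory.Q.obj J := eN ≪≫ asIso (DerivedCategory.Q.map j)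
  obtain ⟨K, ⟨eK⟩⟩ : ∃ K, Nonempty (DerivedCategory.Q.obj K ≅ M) :=
    ⟨_, ⟨(DerivedCategory.Q : _ ⥤ DerivedCategory A).objObjPreimageIso M⟩⟩
  haveI : J.IsStrictlyGE b := hJge
  haveI : ∀ n, Injective (J.X n) := fun n => inferInstance
  haveI := CochainComplex.isKInjective_of_injective J b
  let iJ : CochainComplex B ℤ := (i.mapHomologicalComplex (ComplexShape.up ℤ)).obj J
  haveI : ∀ n, Injective (iJ.X n) := fun n => hinj _ inferInstance
  haveI : iJ.IsStrictlyGE b := by
    rw [CochainComplex.isStrictlyGE_iff]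
    exact fun n hn => i.map_isZero (J.isZero_of_isStrictlyGE b n hn)
  haveI := CochainComplex.isKInjective_of_injective iJ b
  let iK := (i.mapHomologicalComplex (ComplexShape.up ℤ)).obj K
  let c := i.mapDerivedCategoryFactors
  have hQA : Function.Bijective (fun g : (HomotopyCategory.quotient A (ComplexShape.up ℤ)).obj K ⟶
      (HomotopyCategory.quotient A _).obj J => DerivedCategory.Qh.map g) :=
    CochainComplex.IsKInjective.Qh_map_bijective _ J
  have hQB : Function.Bijective (fun g : (HomotopyCategory.quotient B (ComplexShape.up ℤ)).obj iK ⟶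
      (HomotopyCategory.quotient B _).obj iJ => DerivedCategory.Qh.map g) :=
    CochainComplex.IsKInjective.Qh_map_bijective _ iJ
  let qA := DerivedCategory.quotientCompQhIso A
  let qB := DerivedCategory.quotientCompQhIso B
  have core : Function.Bijective (fun f : DerivedCategory.Q.obj K ⟶ DerivedCategory.Q.obj J =>
      i.mapDerivedCategory.map f) := by
    have hsurj : ∀ f : DerivedCategory.Q.obj K ⟶ DerivedCategory.Q.obj J,
        ∃ g, DerivedCategory.Q.map g = f := by
      intro f
      obtain ⟨g, hg⟩ := hQA.2 (qA.hom.app K ≫ f ≫ qA.inv.app J)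
      obtain ⟨g, rfl⟩ := (HomotopyCategory.quotient A _).map_surjective g
      refine ⟨g, ?_⟩
      have := qA.hom.naturality g
      simp only [Functor.comp_map] at this hg
      rw [hg] at this
      simpa [qA] using this.symm
    have hnat : ∀ g : K ⟶ J, i.mapDerivedCategory.map (DerivedCategory.Q.map g) =
        c.hom.app K ≫ DerivedCategory.Q.map ((i.mapHomologicalComplex _).map g) ≫ c.inv.app J := by
      intro g
      have := c.hom.naturality g
      simp only [Functor.comp_map] at this
      rw [← reassoc_of% this, Iso.hom_inv_id_app]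
      exact (Category.comp_id _).symm
    constructor
    · intro f f' h
      obtain ⟨g, rfl⟩ := hsurj f
      obtain ⟨g', rfl⟩ := hsurj f'
      simp only [hnat, cancel_epi, cancel_mono] at h
      have h1 : DerivedCategory.Qh.map ((HomotopyCategory.quotient B _).map
            ((i.mapHomologicalComplex (ComplexShape.up ℤ)).map g)) =
          DerivedCategory.Qh.map ((HomotopyCategory.quotient B _).map
            ((i.mapHomologicalComplex (ComplexShape.up ℤ)).map g')) := by
        have n1 := qB.hom.naturality ((i.mapHomologicalComplex (ComplexShape.up ℤ)).map g)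
        have n2 := qB.hom.naturality ((i.mapHomologicalComplex (ComplexShape.up ℤ)).map g')
        simp only [Functor.comp_map] at n1 n2
        rw [h] at n1
        exact (cancel_mono (qB.hom.app _)).1 (n1.trans n2.symm)
      have h2 := HomotopyCategory.homotopyOfEq _ _ (hQB.1 h1)
      have h3 : Nonempty (Homotopy g g') := ⟨i.preimageHomotopy h2⟩
      have h4 := congrArg DerivedCategory.Qh.map (HomotopyCategory.eq_of_homotopy _ _ h3.some)
      have n1 := qA.hom.naturality g
      have n2 := qA.hom.naturality g'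
      simp only [Functor.comp_map] at n1 n2
      rw [h4] at n1
      exact (cancel_epi (qA.hom.app K)).1 (n1.symm.trans n2)
    · intro ψ
      obtain ⟨h, hh⟩ := hQB.2 (qB.hom.app iK ≫ (c.inv.app K ≫ ψ ≫ c.hom.app J) ≫ qB.inv.app iJ)
      obtain ⟨h, rfl⟩ := (HomotopyCategory.quotient B _).map_surjective h
      obtain ⟨g, rfl⟩ := (i.mapHomologicalComplex (ComplexShape.up ℤ)).map_surjective h
      refine ⟨DerivedCategory.Q.map g, ?_⟩
      have n1 := qB.hom.naturality ((i.mapHomologicalComplex (ComplexShape.up ℤ)).map g)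
      simp only [Functor.comp_map] at n1 hh
      rw [hh] at n1
      have n2 : DerivedCategory.Q.map ((i.mapHomologicalComplex (ComplexShape.up ℤ)).map g) =
          c.inv.app K ≫ ψ ≫ c.hom.app J := by
        rw [← cancel_epi (qB.hom.app iK)]
        simpa [iK, iJ] using n1.symm
      simp [hnat, n2]
  have e : (fun f : M ⟶ N => i.mapDerivedCategory.map f) =
      (Iso.homCongr (i.mapDerivedCategory.mapIso eK) (i.mapDerivedCategory.mapIso eJ.symm)) ∘
        (fun f : DerivedCategory.Q.obj K ⟶ DerivedCategory.Q.obj J => i.mapDerivedCategory.map f) ∘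
          (Iso.homCongr eK.symm eJ) := by
    funext f
    simp [Iso.homCongr, ← Functor.map_comp]
  rw [e]
  exact (Equiv.bijective _).comp (core.comp (Equiv.bijective _))

include hinj in
/-- Objects with cohomology in the subcategory come from it. -/
theorem exists_preimage [EnoughInjectives B] {R : B ⥤ A} [R.Additive] (adj : i ⊣ R)
    (P : ObjectProperty B) (hobj : ∀ M, P (i.obj M)) (hmem : ∀ M, P M → ∃ M', Nonempty (i.obj M' ≅ M))
    (hker : ∀ {M N : B} (f : M ⟶ N), P M → P N → P (kernel f))
    (hext : ∀ (S : ShortComplex B), S.ShortExact → P S.X₁ → P S.X₃ → P S.X₂)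
    (hcok : ∀ {M N : B} (f : M ⟶ N), P M → P N → P (cokernel f))
    (hiso : ∀ {M N : B}, (M ≅ N) → P M → P N)
    (K : DerivedCategory B) (a : ℤ) (hK : K.IsGE a)
    (hcoh : ∀ n, P ((DerivedCategory.homologyFunctor B n).obj K)) :
    ∃ M : DerivedCategory A, M.IsGE a ∧ Nonempty (i.mapDerivedCategory.obj M ≅ K) := by
  haveI := hK
  obtain ⟨K', hK', ⟨eK⟩⟩ := DerivedCategory.exists_iso_Q_obj_of_isGE K a
  obtain ⟨I, j, hj, hIinj, hIge⟩ := CochainComplex.Plus.modelCategoryQuillen.exists_quasiIso_injective K' a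
  haveI : QuasiIso j := by assumption
  haveI : I.IsStrictlyGE a := hIge
  haveI : ∀ n, Injective (I.X n) := fun n => inferInstance
  let eI : DerivedCategory.Q.obj I ≅ K := (asIso (DerivedCategory.Q.map j)).symm ≪≫ eK.symm
  let J : CochainComplex A ℤ := (R.mapHomologicalComplex (ComplexShape.up ℤ)).obj I
  let iJ : CochainComplex B ℤ := (i.mapHomologicalComplex (ComplexShape.up ℤ)).obj J
  let ε : iJ ⟶ I :=
    { f := fun n => adj.counit.app (I.X n)
      comm' := fun p q _ => (adj.counit.naturality (I.d p q)).symm }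
  haveI : i.PreservesMonomorphisms := inferInstance
  have hJi : ∀ n, Injective (J.X n) := fun n => Injective.injective_of_adjoint adj (I.X n)
  have hiJ : ∀ n, Injective (iJ.X n) := fun n => hinj _ (hJi n)
  have hJz : ∀ n < a, IsZero (J.X n) := fun n hn => R.map_isZero (I.isZero_of_isStrictlyGE a n hn)
  haveI : J.IsStrictlyGE a := by
    rw [CochainComplex.isStrictlyGE_iff]
    exact hJz
  refine ⟨DerivedCategory.Q.obj J, inferInstance, ⟨i.mapDerivedCategoryFactors.app J ≪≫ ?_ ≪≫ eI⟩⟩
  suffices hq : QuasiIso ε by exact asIso (DerivedCategory.Q.map ε)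
  let C := CochainComplex.mappingCone ε
  have hHI : ∀ n, P (I.homology n) := fun n =>
    hiso (((DerivedCategory.homologyFunctor B n).mapIso eI.symm) ≪≫
      (DerivedCategory.homologyFunctorFactors B n).app I) (hcoh n)
  have hHJ : ∀ n, P (iJ.homology n) := fun n =>
    hiso ((J.sc n).mapHomologyIso i).symm (hobj _)
  have hHC : ∀ n, P (C.homology n) := by
    intro n
    have hT : CochainComplex.mappingCone.triangleh ε ∈
        Pretriangulated.distinguishedTriangles := HomotopyCategory.mappingCone_triangleh_distinguished ε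
    let F := HomotopyCategory.homologyFunctor B (ComplexShape.up ℤ) 0
    let T := CochainComplex.mappingCone.triangleh ε
    have e₁ : ∀ m : ℤ, (F.shift m).obj T.obj₁ ≅ iJ.homology m := fun m =>
      (HomotopyCategory.homologyFunctorFactors B (ComplexShape.up ℤ) m).app iJ
    have e₂ : ∀ m : ℤ, (F.shift m).obj T.obj₂ ≅ I.homology m := fun m =>
      (HomotopyCategory.homologyFunctorFactors B (ComplexShape.up ℤ) m).app I
    have e₃ : ∀ m : ℤ, (F.shift m).obj T.obj₃ ≅ C.homology m := fun m =>
      (HomotopyCategory.homologyFunctorFactors B (ComplexShape.up ℤ) m).app C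
    have x1 := F.homologySequence_exact₂ T hT n
    have x3 := F.homologySequence_exact₃ T hT n (n + 1) rfl
    have x0 := F.homologySequence_exact₁ T hT n (n + 1) rfl
    have a1 := hiso (e₁ n).symm (hHJ n)
    have a2 := hiso (e₂ n).symm (hHI n)
    have a1' := hiso (e₁ (n + 1)).symm (hHJ (n + 1))
    have a2' := hiso (e₂ (n + 1)).symm (hHI (n + 1))
    let fn := (F.shift n).map T.mor₁
    let g := (F.shift n).map T.mor₂
    let δ := F.homologySequenceδ T n (n + 1) rfl
    let fn' := (F.shift (n + 1)).map T.mor₁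
    have h12 : fn ≫ g = 0 := F.homologySequence_comp T hT n
    have h23 : g ≫ δ = 0 := F.comp_homologySequenceδ T hT n (n + 1) rfl
    have h34 : δ ≫ fn' = 0 := F.homologySequenceδ_comp T hT n (n + 1) rfl
    let u := cokernel.desc fn g h12
    let v := kernel.lift fn' δ h34
    have huv : u ≫ v = 0 := by
      rw [← cancel_epi (cokernel.π fn), ← cancel_mono (kernel.ι fn')]
      simp [u, v, h23]
    let S' := ShortComplex.mk u v huv
    haveI : Mono u := x1.mono_cokernelDesc
    haveI : Epi v := x0.epi_kernelLift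
    have hS' : S'.ShortExact := by
      refine { exact := ?_ }
      let S'' := ShortComplex.mk u δ (by rw [← cancel_epi (cokernel.π fn)]; simp [u, h23])
      let φ₁ : ShortComplex.mk g δ h23 ⟶ S'' :=
        { τ₁ := cokernel.π fn, τ₂ := 𝟙 _, τ₃ := 𝟙 _, comm₁₂ := by simp [S'', u], comm₂₃ := by simp [S''] }
      let φ₂ : S' ⟶ S'' :=
        { τ₁ := 𝟙 _, τ₂ := 𝟙 _, τ₃ := kernel.ι fn', comm₁₂ := by simp [S', S''], comm₂₃ := by simp [S', S'', v] }
      haveI : Epi φ₁.τ₁ := inferInstanceAs (Epi (cokernel.π fn))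
      haveI : IsIso φ₁.τ₂ := inferInstanceAs (IsIso (𝟙 _))
      haveI : Mono φ₁.τ₃ := inferInstanceAs (Mono (𝟙 _))
      haveI : Epi φ₂.τ₁ := inferInstanceAs (Epi (𝟙 _))
      haveI : IsIso φ₂.τ₂ := inferInstanceAs (IsIso (𝟙 _))
      haveI : Mono φ₂.τ₃ := inferInstanceAs (Mono (kernel.ι fn'))
      exact (ShortComplex.exact_iff_of_epi_of_isIso_of_mono φ₂).2
        ((ShortComplex.exact_iff_of_epi_of_isIso_of_mono φ₁).1 x3)
    exact hiso (e₃ n) (hext S' hS' (hcok fn a1 a2) (hker fn' a1' a2'))
  have hCz : ∀ n < a - 1, IsZero (C.X n) := fun n hn => by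
    have h1 : IsZero (iJ.X (n + 1)) := i.map_isZero (hJz (n + 1) (by omega))
    have h2 : IsZero (I.X n) := I.isZero_of_isStrictlyGE a n (by omega)
    rw [IsZero.iff_id_eq_zero]
    exact CochainComplex.mappingCone.ext_to ε n (n + 1) rfl (h1.eq_of_tgt _ _) (h2.eq_of_tgt _ _)
  have hCI : ∀ n, Injective (C.X n) := fun n => by
    haveI := hiJ (n + 1)
    haveI : Injective (I.X n) := inferInstance
    haveI : HasBinaryBiproduct (iJ.X (n + 1)) (I.X n) := inferInstance
    exact Injective.of_iso (HomologicalComplex.homotopyCofiber.XIsoBiprod ε n (n + 1) rfl).symm inferInstance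
  have hfac : ∀ (n : ℤ) (H : B), P H → ∀ f : H ⟶ C.X (n + 1), f ≫ C.d (n + 1) (n + 1 + 1) = 0 →
      ∃ g : H ⟶ C.X n, g ≫ C.d n (n + 1) = f := by
    intro n H hH f hf
    obtain ⟨H', ⟨eH⟩⟩ := hmem H hH
    let j₂ : eH.inv ≫ 𝟙 _ = eH.inv := Category.comp_id _
    let fx := eH.hom ≫ f ≫ (CochainComplex.mappingCone.fst ε).1.v (n + 1) (n + 1 + 1) rfl
    let fy := eH.hom ≫ f ≫ (CochainComplex.mappingCone.snd ε).v (n + 1) (n + 1) (add_zero _)
    -- the second component lifts along the counit
    let g' : H' ⟶ J.X (n + 1) := adj.homEquiv H' (I.X (n + 1)) fy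
    have hg' : i.map g' ≫ ε.f (n + 1) = fy := by
      have := (adj.homEquiv H' (I.X (n + 1))).symm_apply_apply fy
      rw [Adjunction.homEquiv_counit] at this
      exact this
    refine ⟨eH.inv ≫ i.map g' ≫ (CochainComplex.mappingCone.inl ε).v (n + 1) n (by omega), ?_⟩
    rw [← cancel_epi eH.hom]
    simp only [Category.assoc, Iso.hom_inv_id_assoc]
    have h1 : fx ≫ ε.f (n + 1 + 1) + fy ≫ I.d (n + 1) (n + 1 + 1) = 0 := by
      have := congrArg (fun t => eH.hom ≫ t ≫ (CochainComplex.mappingCone.snd ε).v (n + 1 + 1) (n + 1 + 1) (add_zero _)) hf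
      simp only [Category.assoc, zero_comp, comp_zero] at this
      rw [CochainComplex.mappingCone.d_snd_v ε (n + 1) (n + 1 + 1) rfl, Preadditive.comp_add,
        Preadditive.comp_add] at this
      simpa only [fx, fy, Category.assoc] using this
    obtain ⟨x', hx'⟩ := i.map_surjective fx
    let G' : i.obj H' ⟶ iJ.X (n + 1) := i.map g'
    have hG' : G' ≫ ε.f (n + 1) = fy := hg'
    have hsum : i.map (g' ≫ J.d (n + 1) (n + 1 + 1) + x') = G' ≫ iJ.d (n + 1) (n + 1 + 1) + fx := by
      rw [i.map_add, i.map_comp, hx']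
      rfl
    have h2 : i.map (g' ≫ J.d (n + 1) (n + 1 + 1) + x') ≫ ε.f (n + 1 + 1) = 0 := by
      refine (congrArg (fun t : i.obj H' ⟶ iJ.X (n + 1 + 1) => t ≫ ε.f (n + 1 + 1)) hsum).trans ?_
      change (G' ≫ iJ.d (n + 1) (n + 1 + 1) + fx) ≫ ε.f (n + 1 + 1) = 0
      rw [Preadditive.add_comp, Category.assoc, ← ε.comm (n + 1) (n + 1 + 1), reassoc_of% hG']
      exact (add_comm _ _).trans h1
    have h3 : g' ≫ J.d (n + 1) (n + 1 + 1) + x' = 0 := by
      apply (adj.homEquiv _ _).symm.injective
      rw [adj.homEquiv_counit, adj.homEquiv_counit, Functor.map_zero, zero_comp]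
      exact h2
    have h4 : G' ≫ iJ.d (n + 1) (n + 1 + 1) + fx = 0 := by
      rw [← hsum, h3]
      exact i.map_zero _ _
    apply CochainComplex.mappingCone.ext_to ε (n + 1) (n + 1 + 1) rfl
    · change (G' ≫ (CochainComplex.mappingCone.inl ε).v (n + 1) n _ ≫ C.d n (n + 1)) ≫ _ = (eH.hom ≫ f) ≫ _
      simp only [Category.assoc]
      rw [CochainComplex.mappingCone.d_fst_v ε n (n + 1) (n + 1 + 1) rfl rfl,
        Preadditive.comp_neg, Preadditive.comp_neg, CochainComplex.mappingCone.inl_v_fst_v_assoc]
      exact (eq_neg_iff_add_eq_zero.2 ((add_comm _ _).trans h4)).symm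
    · change (G' ≫ (CochainComplex.mappingCone.inl ε).v (n + 1) n _ ≫ C.d n (n + 1)) ≫ _ = (eH.hom ≫ f) ≫ _
      simp only [Category.assoc]
      rw [CochainComplex.mappingCone.d_snd_v ε n (n + 1) rfl, Preadditive.comp_add, Preadditive.comp_add,
        CochainComplex.mappingCone.inl_v_fst_v_assoc, CochainComplex.mappingCone.inl_v_snd_v_assoc,
        zero_comp, comp_zero, add_zero, hG']
  have hC := exactAt_of_factor C (a - 1) hCz hCI P hHC hfac
  rw [← DerivedCategory.isIso_Q_map_iff_quasiIso]
  refine (Pretriangulated.Triangle.isZero₃_iff_isIso₁ _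
    (DerivedCategory.mappingCone_triangle_distinguished ε)).1 ?_
  rw [IsZero.iff_id_eq_zero]
  haveI : IsIso (0 : DerivedCategory.Q.obj C ⟶ DerivedCategory.Q.obj C) := by
    rw [DerivedCategory.isIso_iff]
    intro m
    have hz : IsZero ((DerivedCategory.homologyFunctor B m).obj (DerivedCategory.Q.obj C)) :=
      ((C.exactAt_iff_isZero_homology m).1 (hC m)).of_iso ((DerivedCategory.homologyFunctorFactors B m).app C)
    exact hz.isIso hz _
  have h0 := IsIso.hom_inv_id (0 : DerivedCategory.Q.obj C ⟶ DerivedCategory.Q.obj C)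
  rw [zero_comp] at h0
  exact h0.symm

end Groth.Agent.QCGen.Plus
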