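import Mathlib
/-!
A bounded below complex with cohomology in an abelian subcategory is quasi-isomorphic to a complex
of objects of the subcategory which are injective in the ambient category.
-/

set_option autoImplicit false
set_option maxHeartbeats 1000000
set_option backward.isDefEq.respectTransparency false
set_option backward.isDefEq.respectTransparency.types false

universe w w' v v' u u'

open CategoryTheory CategoryTheory.Limits

namespace Groth.Agent.QCGen.Resolve

variable {A' : Type u'} [Category.{v'} A'] [Abelian A'] {A : Type u} [Category.{v} A] [Abelian A]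
  (ι : A' ⥤ A) [ι.Additive] [PreservesFiniteLimits ι] [PreservesFiniteColimits ι] [ι.Full] [ι.Faithful]

/-- The part of the construction up to degree `n`. -/
structure State (K : CochainComplex A ℤ) (n : ℤ) where
  C : A'
  c : K.opcycles n ⟶ ι.obj C
  mono : Mono (K.homologyι n ≫ c)

/-- One further degree. -/
structure Step (K : CochainComplex A ℤ) (p q : ℤ) (s : State ι K p) where
  Y : A'
  inj : Injective (ι.obj Y)
  δ : s.C ⟶ Y
  f : K.X q ⟶ ι.obj Y
  comm : s.c ≫ ι.map δ = K.fromOpcycles p q ≫ f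
  ker : ∀ ⦃T : A⦄ (y : T ⟶ ι.obj s.C), y ≫ ι.map δ = 0 →
    ∃ (T' : A) (e : T' ⟶ T) (_ : Epi e) (h : T' ⟶ K.homology p), e ≫ y = h ≫ K.homologyι p ≫ s.c
  t : State ι K q
  π : Y ⟶ t.C
  epi : Epi π
  δπ : δ ≫ π = 0
  πker : ∀ ⦃T : A⦄ (y : T ⟶ ι.obj Y), y ≫ ι.map π = 0 →
    ∃ (T' : A) (e : T' ⟶ T) (_ : Epi e) (x : T' ⟶ ι.obj s.C), e ≫ y = x ≫ ι.map δ
  ct : K.pOpcycles q ≫ t.c = f ≫ ι.map π

variable {ι}

theorem nonempty_step (hext : ∀ S : ShortComplex A, S.ShortExact → ι.essImage S.X₁ → ι.essImage S.X₃ → ι.essImage S.X₂)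
    (hinj : ∀ X' : A', ∃ (Y' : A') (i : X' ⟶ Y'), Mono i ∧ Injective (ι.obj Y'))
    (K : CochainComplex A ℤ) (hK : ∀ n, ι.essImage (K.homology n)) {p q : ℤ} (h : p + 1 = q)
    (s : State ι K p) : Nonempty (Step ι K p q s) := by
  haveI := s.mono
  let o := K.opcyclesToCycles p q
  let W := pushout s.c o
  let l : ι.obj s.C ⟶ W := pushout.inl s.c o
  let r : K.cycles q ⟶ W := pushout.inr s.c o
  have sq : IsPushout s.c o l r := IsPushout.of_hasPushout _ _
  have hprev : (ComplexShape.up ℤ).prev q = p := by simp; omega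
  have hnext : (ComplexShape.up ℤ).next p = q := by simp; omega
  have hkl : ∀ ⦃T : A⦄ (y : T ⟶ ι.obj s.C), y ≫ l = 0 →
      ∃ (T' : A) (e : T' ⟶ T) (_ : Epi e) (h' : T' ⟶ K.homology p), e ≫ y = h' ≫ K.homologyι p ≫ s.c := by
    intro T y hy
    obtain ⟨T', e, he, x, hx⟩ := (ShortComplex.exact_iff_exact_up_to_refinements _).1 sq.exact_shortComplex
      (biprod.lift y 0) (by simp [hy])
    have hx1 : e ≫ y = x ≫ s.c := by simpa using congrArg (· ≫ biprod.fst) hx
    have hx2 : x ≫ o = 0 := by simpa [eq_comm, neg_eq_zero] using congrArg (· ≫ biprod.snd) hx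
    have hx3 : x ≫ K.fromOpcycles p q = 0 := by
      rw [← K.opcyclesToCycles_iCycles, reassoc_of% hx2, zero_comp]
    obtain ⟨h', hh'⟩ := KernelFork.IsLimit.lift' (K.homologyIsKernel p q hnext) x hx3
    refine ⟨T', e, he, h', ?_⟩
    rw [hx1, ← hh']
    exact Category.assoc _ _ _
  let φ := K.homologyι p ≫ s.c
  let ψ : cokernel φ ⟶ W := cokernel.desc φ l (by
    simp only [φ, Category.assoc, l, o, pushout.condition]
    rw [HomologicalComplex.homologyι_opcyclesToCycles_assoc, zero_comp])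
  have hψ : ∀ ⦃T : A⦄ (z : T ⟶ cokernel φ), z ≫ ψ = 0 → z = 0 := by
    intro T z hz
    obtain ⟨T', e, he, y, hy⟩ := surjective_up_to_refinements_of_epi (cokernel.π φ) z
    obtain ⟨T'', e', he', h', hh'⟩ := hkl y (by
      have := congrArg (· ≫ ψ) hy
      simpa [ψ, hz] using this.symm)
    rw [← cancel_epi (e' ≫ e), comp_zero, Category.assoc, hy, ← Category.assoc, hh', Category.assoc,
      cokernel.condition, comp_zero]
  haveI : Mono ψ := Preadditive.mono_of_cancel_zero _ fun z hz => hψ z hz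
  let θ : W ⟶ K.homology q := pushout.desc 0 (K.homologyπ q)
    (by simp [o])
  have hψθ : ψ ≫ θ = 0 := by
    rw [← cancel_epi (cokernel.π φ), cokernel.π_desc_assoc, comp_zero]
    simp [θ, l]
  let S := ShortComplex.mk ψ θ hψθ
  have hS : S.ShortExact :=
    { exact := by
        rw [ShortComplex.exact_iff_exact_up_to_refinements]
        intro T w hw
        let g : ι.obj s.C ⊞ K.cycles q ⟶ W := biprod.desc l r
        haveI : Epi g := sq.epi_shortComplex_g
        obtain ⟨T₁, e₁, he₁, b, hb⟩ := surjective_up_to_refinements_of_epi g w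
        have hbz : (b ≫ biprod.snd) ≫ K.homologyπ q = 0 := by
          have h2 : g ≫ θ = biprod.snd ≫ K.homologyπ q := by
            apply biprod.hom_ext' <;> simp [g, θ, l, r]
          rw [Category.assoc, ← h2, ← Category.assoc, ← hb, Category.assoc]
          exact (congrArg (e₁ ≫ ·) hw).trans comp_zero
        obtain ⟨T₂, e₂, he₂, x, hx⟩ :=
          (K.comp_homologyπ_eq_zero_iff_up_to_refinements p q hprev _).1 hbz
        refine ⟨T₂, e₂ ≫ e₁, inferInstance,
          (e₂ ≫ b ≫ biprod.fst + x ≫ K.pOpcycles p ≫ s.c) ≫ cokernel.π φ, ?_⟩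
        have hb' : b ≫ g = b ≫ biprod.fst ≫ l + (b ≫ biprod.snd) ≫ r := by
          have : g = biprod.fst ≫ l + biprod.snd ≫ r := by
            apply biprod.hom_ext' <;> simp [g]
          rw [this, Preadditive.comp_add, Category.assoc]
        have hr' : (K.pOpcycles p ≫ o) ≫ r = K.pOpcycles p ≫ s.c ≫ l := by
          rw [Category.assoc, ← sq.w]
        have hxr : e₂ ≫ (b ≫ biprod.snd) ≫ r = x ≫ K.pOpcycles p ≫ s.c ≫ l := by
          rw [← Category.assoc e₂, hx, ← hr', ← K.pOpcycles_opcyclesToCycles p q, Category.assoc]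
        change (e₂ ≫ e₁) ≫ w = (_ ≫ cokernel.π φ) ≫ ψ
        rw [Category.assoc, hb, hb', Category.assoc _ (cokernel.π φ) ψ, cokernel.π_desc,
          Preadditive.comp_add, hxr, Preadditive.add_comp]
        simp only [Category.assoc]
      mono_f := inferInstance
      epi_g := by
        haveI : Epi (r ≫ θ) := by simp [θ, r]; infer_instance
        exact epi_of_epi r θ }
  have hQ : ι.essImage (cokernel φ) := by
    obtain ⟨H', ⟨eH⟩⟩ := hK p
    obtain ⟨g, hg⟩ := ι.map_surjective (eH.hom ≫ φ)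
    refine ⟨cokernel g, ⟨PreservesCokernel.iso ι g ≪≫ ?_⟩⟩
    exact cokernel.mapIso _ _ eH (Iso.refl _) (by simp [hg])
  obtain ⟨W', ⟨eW⟩⟩ := hext S hS hQ (hK q)
  obtain ⟨Y, i, hi, hY⟩ := hinj W'
  let j : W ⟶ ι.obj Y := eW.inv ≫ ι.map i
  haveI : Mono (ι.map i) := inferInstance
  haveI : Mono j := mono_comp _ _
  obtain ⟨δ, hδ⟩ := ι.map_surjective (l ≫ j)
  let f := Injective.factorThru (r ≫ j) (K.iCycles q)
  have hf : K.iCycles q ≫ f = r ≫ j := Injective.comp_factorThru _ _
  have hcomm : s.c ≫ ι.map δ = K.fromOpcycles p q ≫ f := by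
    rw [hδ, ← K.opcyclesToCycles_iCycles, Category.assoc, hf, ← Category.assoc, sq.w, Category.assoc]
  have hπ : ι.map δ ≫ ι.map (cokernel.π δ) = 0 := by rw [← ι.map_comp, cokernel.condition, ι.map_zero]
  have hd : K.d p q ≫ f ≫ ι.map (cokernel.π δ) = 0 := by
    rw [← K.p_fromOpcycles p q, Category.assoc, ← reassoc_of% hcomm, hπ, comp_zero, comp_zero]
  let c' : K.opcycles q ⟶ ι.obj (cokernel δ) := K.descOpcycles (f ≫ ι.map (cokernel.π δ)) p hprev hd
  have hπker : ∀ ⦃T : A⦄ (y : T ⟶ ι.obj Y), y ≫ ι.map (cokernel.π δ) = 0 →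
      ∃ (T' : A) (e : T' ⟶ T) (_ : Epi e) (x : T' ⟶ ι.obj s.C), e ≫ y = x ≫ ι.map δ := fun T y hy =>
    (ShortComplex.exact_iff_exact_up_to_refinements _).1
      ((ShortComplex.exact_of_g_is_cokernel (ShortComplex.mk δ (cokernel.π δ) (cokernel.condition δ))
        (cokernelIsCokernel δ)).map ι) y hy
  have hmono : Mono (K.homologyι q ≫ c') := by
    refine Preadditive.mono_of_cancel_zero _ fun {T} x hx => ?_
    obtain ⟨T₁, e₁, he₁, z, hz⟩ := surjective_up_to_refinements_of_epi (K.homologyπ q) x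
    have hzy : (z ≫ r ≫ j) ≫ ι.map (cokernel.π δ) = 0 := by
      have := congrArg (· ≫ K.homologyι q ≫ c') hz
      simp only [Category.assoc, hx, comp_zero] at this
      rw [HomologicalComplex.homology_π_ι_assoc, HomologicalComplex.p_descOpcycles,
        reassoc_of% hf] at this
      simpa only [Category.assoc] using this.symm
    obtain ⟨T₂, e₂, he₂, y, hy⟩ := hπker _ hzy
    have hy' : e₂ ≫ z ≫ r = y ≫ l := by
      rw [← cancel_mono j]
      simpa only [Category.assoc, hδ] using hy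
    have h0 := congrArg (· ≫ θ) hy'
    simp only [Category.assoc, θ, r, l, pushout.inr_desc, pushout.inl_desc, comp_zero] at h0
    rw [← cancel_epi (e₂ ≫ e₁), comp_zero, Category.assoc, hz]
    exact h0
  exact ⟨{ Y := Y, inj := hY, δ := δ, f := f, comm := hcomm
           ker := fun T y hy => hkl y ((cancel_mono j).1 (by rw [Category.assoc, ← hδ, hy, zero_comp]))
           t := ⟨cokernel δ, c', hmono⟩
           π := cokernel.π δ, epi := inferInstance, δπ := cokernel.condition δ, πker := hπker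
           ct := K.p_descOpcycles _ p hprev hd }⟩

section Glue

open scoped ZeroObject

variable (hext : ∀ S : ShortComplex A, S.ShortExact → ι.essImage S.X₁ → ι.essImage S.X₃ → ι.essImage S.X₂)
  (hinj : ∀ X' : A', ∃ (Y' : A') (i : X' ⟶ Y'), Mono i ∧ Injective (ι.obj Y'))
  (K : CochainComplex A ℤ) (hK : ∀ n, ι.essImage (K.homology n)) [K.IsStrictlyGE 0]

/-- The chosen step. -/
noncomputable def next {p q : ℤ} (h : p + 1 = q) (s : State ι K p) : Step ι K p q s :=
  (nonempty_step hext hinj K hK h s).some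

/-- The state in degree `-1`. -/
noncomputable def init : State ι K (-1) where
  C := 0
  c := 0
  mono := by
    have h : IsZero (K.homology (-1)) :=
      (K.exactAt_iff_isZero_homology _).1 (by
        rw [HomologicalComplex.exactAt_iff]
        exact ShortComplex.exact_of_isZero_X₂ _ (K.isZero_of_isStrictlyGE 0 (-1) (by omega)))
    exact ⟨fun a b _ => h.eq_of_tgt a b⟩

/-- The states in nonnegative degrees. -/
noncomputable def sts : ∀ k : ℕ, State ι K (k : ℤ)
  | 0 => (next hext hinj K hK (show (-1 : ℤ) + 1 = ((0 : ℕ) : ℤ) by simp) (init K)).t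
  | k + 1 => (next hext hinj K hK (show (k : ℤ) + 1 = ((k + 1 : ℕ) : ℤ) by simp) (sts k)).t

/-- The step out of degree `k`. -/
noncomputable def stp (k : ℕ) : Step ι K (k : ℤ) ((k + 1 : ℕ) : ℤ) (sts hext hinj K hK k) :=
  next hext hinj K hK (show (k : ℤ) + 1 = ((k + 1 : ℕ) : ℤ) by simp) (sts hext hinj K hK k)

/-- The step into degree `0`. -/
noncomputable def first : Step ι K (-1) ((0 : ℕ) : ℤ) (init K) :=
  next hext hinj K hK (show (-1 : ℤ) + 1 = ((0 : ℕ) : ℤ) by simp) (init K)

/-- The terms in nonnegative degrees. -/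
noncomputable def Y : ℕ → A'
  | 0 => (first hext hinj K hK).Y
  | k + 1 => (stp hext hinj K hK k).Y

/-- The projection to the cokernel. -/
noncomputable def π' : ∀ k : ℕ, Y hext hinj K hK k ⟶ (sts hext hinj K hK k).C
  | 0 => (first hext hinj K hK).π
  | k + 1 => (stp hext hinj K hK k).π

/-- The components in nonnegative degrees. -/
noncomputable def f' : ∀ k : ℕ, K.X (k : ℤ) ⟶ ι.obj (Y hext hinj K hK k)
  | 0 => (first hext hinj K hK).f
  | k + 1 => (stp hext hinj K hK k).f

/-- The terms. -/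
noncomputable def X : ℤ → A'
  | Int.ofNat k => Y hext hinj K hK k
  | Int.negSucc _ => 0

/-- The differentials. -/
noncomputable def D : ∀ n : ℤ, X hext hinj K hK n ⟶ X hext hinj K hK (n + 1)
  | Int.ofNat k => π' hext hinj K hK k ≫ (stp hext hinj K hK k).δ
  | Int.negSucc _ => 0

lemma D_sq : ∀ n : ℤ, D hext hinj K hK n ≫ D hext hinj K hK (n + 1) = 0
  | Int.ofNat k => by
      change (π' hext hinj K hK k ≫ (stp hext hinj K hK k).δ) ≫
        (stp hext hinj K hK k).π ≫ (stp hext hinj K hK (k + 1)).δ = 0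
      rw [Category.assoc, reassoc_of% (stp hext hinj K hK k).δπ, zero_comp, comp_zero]
  | Int.negSucc _ => zero_comp

lemma pComm (k : ℕ) : K.pOpcycles (k : ℤ) ≫ (sts hext hinj K hK k).c =
    f' hext hinj K hK k ≫ ι.map (π' hext hinj K hK k) := by
  cases k with
  | zero => exact (first hext hinj K hK).ct
  | succ k => exact (stp hext hinj K hK k).ct

include hext hinj hK in
theorem exists_resolution : ∃ (I : CochainComplex A' ℤ) (F : K ⟶ (ι.mapHomologicalComplex (ComplexShape.up ℤ)).obj I),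
    I.IsStrictlyGE 0 ∧ (∀ n, Injective (ι.obj (I.X n))) ∧ QuasiIso F := by
  let I : CochainComplex A' ℤ := CochainComplex.of (X hext hinj K hK) (D hext hinj K hK) (D_sq hext hinj K hK)
  have hd : ∀ n, I.d n (n + 1) = D hext hinj K hK n := fun n => CochainComplex.of_d _ _ n
  have hdk : ∀ k : ℕ, I.d (k : ℤ) ((k + 1 : ℕ) : ℤ) = π' hext hinj K hK k ≫ (stp hext hinj K hK k).δ :=
    fun k => hd (k : ℤ)
  let IA := (ι.mapHomologicalComplex (ComplexShape.up ℤ)).obj I
  let fc : ∀ n : ℤ, K.X n ⟶ IA.X n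
    | Int.ofNat k => f' hext hinj K hK k
    | Int.negSucc _ => 0
  let F : K ⟶ IA :=
    { f := fc
      comm' := by
        rintro i _ rfl
        rcases i with k | m
        · change f' hext hinj K hK k ≫ ι.map (I.d (k : ℤ) ((k + 1 : ℕ) : ℤ)) =
            K.d (k : ℤ) ((k + 1 : ℕ) : ℤ) ≫ (stp hext hinj K hK k).f
          rw [hdk, ι.map_comp, ← reassoc_of% pComm hext hinj K hK k, (stp hext hinj K hK k).comm,
            ← Category.assoc, K.p_fromOpcycles]
        · exact (K.isZero_of_isStrictlyGE 0 (Int.negSucc m) (by omega)).eq_of_src _ _ }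
  haveI hI0 : I.IsStrictlyGE 0 := by
    rw [CochainComplex.isStrictlyGE_iff]
    intro n hn
    obtain ⟨m, rfl⟩ := Int.exists_eq_neg_ofNat (le_of_lt hn) |>.imp fun m hm => hm
    rcases m with _ | m
    · simp at hn
    · exact isZero_zero A'
  have hinjI : ∀ n, Injective (ι.obj (I.X n)) := by
    rintro (k | m)
    · cases k with
      | zero => exact (first hext hinj K hK).inj
      | succ k => exact (stp hext hinj K hK k).inj
    · exact ⟨fun g f _ => ⟨0, (ι.map_isZero (isZero_zero A')).eq_of_tgt _ _⟩⟩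
  refine ⟨I, F, hI0, hinjI, ⟨fun n => ?_⟩⟩
  rw [quasiIsoAt_iff_isIso_homologyMap]
  rcases n with k | m
  swap
  · have z1 : IsZero (K.homology (Int.negSucc m)) := (K.exactAt_iff_isZero_homology _).1 (by
      rw [HomologicalComplex.exactAt_iff]
      exact ShortComplex.exact_of_isZero_X₂ _ (K.isZero_of_isStrictlyGE 0 (Int.negSucc m) (by omega)))
    have z2 : IsZero (IA.homology (Int.negSucc m)) := (IA.exactAt_iff_isZero_homology _).1 (by
      rw [HomologicalComplex.exactAt_iff]
      exact ShortComplex.exact_of_isZero_X₂ _ (ι.map_isZero (isZero_zero A')))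
    exact z1.isIso z2 _
  have hbd : ∀ ⦃T : A⦄ (y : T ⟶ IA.X (k : ℤ)), y ≫ ι.map (π' hext hinj K hK k) = 0 →
      ∃ (T' : A) (e : T' ⟶ T) (_ : Epi e) (w : T' ⟶ IA.X ((k : ℤ) - 1)),
        e ≫ y = w ≫ IA.d ((k : ℤ) - 1) (k : ℤ) := by
    intro T y hy
    cases k with
    | zero =>
      obtain ⟨T', e, he, x, hx⟩ := (first hext hinj K hK).πker y hy
      refine ⟨T', e, he, 0, ?_⟩
      rw [hx, zero_comp, (ι.map_isZero (isZero_zero A')).eq_of_tgt x 0]
      exact zero_comp
    | succ k =>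
      obtain ⟨T', e, he, x, hx⟩ := (stp hext hinj K hK k).πker y hy
      haveI : Epi (π' hext hinj K hK k) := by
        cases k with
        | zero => exact (first hext hinj K hK).epi
        | succ j => exact (stp hext hinj K hK j).epi
      obtain ⟨T'', e', he', w, hw⟩ := surjective_up_to_refinements_of_epi (ι.map (π' hext hinj K hK k)) x
      rw [show (((k + 1 : ℕ) : ℤ) - 1) = (k : ℤ) by simp]
      refine ⟨T'', e' ≫ e, inferInstance, w, ?_⟩
      change (e' ≫ e) ≫ y = w ≫ ι.map (I.d (k : ℤ) ((k + 1 : ℕ) : ℤ))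
      rw [Category.assoc, hx, ← Category.assoc, hw, Category.assoc, hdk, ι.map_comp]
  have hprev : (ComplexShape.up ℤ).prev (k : ℤ) = (k : ℤ) - 1 := by simp
  have hnext : (ComplexShape.up ℤ).next (k : ℤ) = ((k + 1 : ℕ) : ℤ) := by simp
  have hdπ : IA.d ((k : ℤ) - 1) (k : ℤ) ≫ ι.map (π' hext hinj K hK k) = 0 := by
    cases k with
    | zero => exact (ι.map_isZero (isZero_zero A')).eq_of_src _ _
    | succ k =>
      rw [show (((k + 1 : ℕ) : ℤ) - 1) = (k : ℤ) by simp]
      change ι.map (I.d (k : ℤ) ((k + 1 : ℕ) : ℤ)) ≫ ι.map (stp hext hinj K hK k).π = 0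
      rw [hdk, ← ι.map_comp, Category.assoc]
      exact ι.map_eq_zero_iff.2 (by rw [(stp hext hinj K hK k).δπ, comp_zero])
  haveI : Mono (HomologicalComplex.homologyMap F (k : ℤ)) := by
    refine Preadditive.mono_of_cancel_zero _ fun {T} x hx => ?_
    haveI := (sts hext hinj K hK k).mono
    rw [← cancel_mono (K.homologyι (k : ℤ) ≫ (sts hext hinj K hK k).c), zero_comp]
    have hc : HomologicalComplex.opcyclesMap F (k : ℤ) ≫ IA.descOpcycles _ _ hprev hdπ =
        (sts hext hinj K hK k).c := by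
      rw [← cancel_epi (K.pOpcycles (k : ℤ)), pComm, HomologicalComplex.p_opcyclesMap_assoc,
        HomologicalComplex.p_descOpcycles]
    rw [← hc, ← HomologicalComplex.homologyι_naturality_assoc, ← Category.assoc, hx, zero_comp]
  haveI : Epi (HomologicalComplex.homologyMap F (k : ℤ)) := by
    rw [epi_iff_surjective_up_to_refinements]
    intro T γ
    obtain ⟨T₁, e₁, he₁, y, hy, hγ⟩ :=
      IA.eq_liftCycles_homologyπ_up_to_refinements γ ((k + 1 : ℕ) : ℤ) hnext
    have hy' : (y ≫ ι.map (π' hext hinj K hK k)) ≫ ι.map (stp hext hinj K hK k).δ = 0 := by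
      rw [Category.assoc, ← ι.map_comp, ← hdk]
      exact hy
    obtain ⟨T₂, e₂, he₂, h, hh⟩ := (stp hext hinj K hK k).ker _ hy'
    obtain ⟨T₃, e₃, he₃, z, hz, hhz⟩ :=
      K.eq_liftCycles_homologyπ_up_to_refinements h ((k + 1 : ℕ) : ℤ) hnext
    have hzc : z ≫ f' hext hinj K hK k ≫ ι.map (π' hext hinj K hK k) =
        e₃ ≫ e₂ ≫ y ≫ ι.map (π' hext hinj K hK k) := by
      rw [← pComm, hh, reassoc_of% hhz, HomologicalComplex.homology_π_ι_assoc,
        HomologicalComplex.liftCycles_i_assoc]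
    obtain ⟨T₄, e₄, he₄, w, hw⟩ := hbd (e₃ ≫ e₂ ≫ y - z ≫ F.f (k : ℤ))
      (by
        change (e₃ ≫ e₂ ≫ y - z ≫ F.f (k : ℤ)) ≫ _ = 0
        rw [Preadditive.sub_comp, sub_eq_zero, Category.assoc, Category.assoc, Category.assoc]
        exact hzc.symm)
    refine ⟨T₄, e₄ ≫ e₃ ≫ e₂ ≫ e₁, inferInstance, e₄ ≫ e₃ ≫ h, ?_⟩
    simp only [Category.assoc, hγ]
    rw [reassoc_of% hhz, HomologicalComplex.homologyπ_naturality,
      HomologicalComplex.liftCycles_comp_cyclesMap_assoc]
    simp only [HomologicalComplex.comp_liftCycles_assoc]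
    rw [IA.liftCycles_comp_homologyπ_eq_iff_up_to_refinements _ _ _ hprev hnext]
    refine ⟨T₄, 𝟙 _, inferInstance, w, ?_⟩
    have h5 : e₄ ≫ e₃ ≫ e₂ ≫ y = e₄ ≫ z ≫ F.f (k : ℤ) + w ≫ IA.d ((k : ℤ) - 1) (k : ℤ) := by
      rw [← hw, Preadditive.comp_sub, add_sub_cancel]
    rw [Category.id_comp, Category.id_comp]
    exact h5
  exact isIso_of_mono_of_epi _

end Glue

end Groth.Agent.QCGen.Resolve
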