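import Groth.Agent.QC.Generated
import Groth.Agent.QC.Closure
/-!
Quasi-coherent submodules given by families of sections on all affine opens, and saturation of one
section to such a family indexed by a set not depending on the module.
-/

set_option autoImplicit false

universe u

open CategoryTheory CategoryTheory.Limits AlgebraicGeometry TopologicalSpace Opposite

set_option backward.isDefEq.respectTransparency false

noncomputable section

namespace Groth.Agent.QCGen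

open QC

variable {X : Scheme.{u}} {F : X.Modules}

/-- Families of sections on affine opens with compatible spans. -/
structure Stable (F : X.Modules) where
  T : ∀ U : X.affineOpens, Set Γ(F, U.1)
  down : ∀ (U V : X.affineOpens) (h : V.1 ≤ U.1), ∀ t ∈ T U,
    res F h t ∈ Submodule.span Γ(X, V.1) (T V)
  up : ∀ (U V : X.affineOpens) (h : V.1 ≤ U.1), ∀ t ∈ T V,
    t ∈ Submodule.span Γ(X, V.1) (res F h '' T U)

namespace Stable

variable (S : Stable F)

lemma span_eq {U V : X.affineOpens} (h : V.1 ≤ U.1) :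
    Submodule.span Γ(X, V.1) (res F h '' S.T U) = Submodule.span Γ(X, V.1) (S.T V) := by
  refine le_antisymm (Submodule.span_le.mpr ?_) (Submodule.span_le.mpr fun t ht ↦ S.up U V h t ht)
  rintro _ ⟨t, ht, rfl⟩
  exact S.down U V h t ht

/-- The submodule sheaf of a stable family. -/
def sub : Sub F where
  obj O :=
    { carrier := {s | ∀ x ∈ O, ∃ (V : X.affineOpens) (h : V.1 ≤ O), x ∈ V.1 ∧
        res F h s ∈ Submodule.span Γ(X, V.1) (S.T V)}
      zero_mem' := fun x hx ↦ by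
        obtain ⟨V, hV, hxV, hle⟩ := exists_isAffineOpen_mem_and_subset hx
        exact ⟨⟨V, hV⟩, hle, hxV, by simp⟩
      add_mem' := fun {a b} ha hb x hx ↦ by
        obtain ⟨W, h, hxW, ha⟩ := ha x hx
        obtain ⟨W', g, hxW', hb⟩ := hb x hx
        obtain ⟨V, hV, hxV, hle⟩ := exists_isAffineOpen_mem_and_subset (x := x)
          (U := W.1 ⊓ W'.1) ⟨hxW, hxW'⟩
        have k1 : V ≤ W.1 := fun y hy ↦ (hle hy).1
        have k2 : V ≤ W'.1 := fun y hy ↦ (hle hy).2
        refine ⟨⟨V, hV⟩, k1.trans h, hxV, ?_⟩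
        have ha' := res_mem_span (F := F) k1 ha
        have hb' := res_mem_span (F := F) k2 hb
        rw [S.span_eq (V := ⟨V, hV⟩) k1, res_res] at ha'
        rw [S.span_eq (V := ⟨V, hV⟩) k2, res_res] at hb'
        rw [map_add]
        exact Submodule.add_mem _ ha' hb'
      smul_mem' := fun c a ha x hx ↦ by
        obtain ⟨W, h, hxW, ha⟩ := ha x hx
        exact ⟨W, h, hxW, by rw [res_smul]; exact Submodule.smul_mem _ _ ha⟩ }
  res_mem := fun {O' O} hO {s} hs x hx ↦ by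
    obtain ⟨W, h, hxW, hs⟩ := hs x (hO hx)
    obtain ⟨V, hV, hxV, hle⟩ := exists_isAffineOpen_mem_and_subset (x := x)
      (U := W.1 ⊓ O') ⟨hxW, hx⟩
    have k1 : V ≤ W.1 := fun y hy ↦ (hle hy).1
    have k2 : V ≤ O' := fun y hy ↦ (hle hy).2
    refine ⟨⟨V, hV⟩, k2, hxV, ?_⟩
    have hs' := res_mem_span (F := F) k1 hs
    rw [S.span_eq (V := ⟨V, hV⟩) k1, res_res] at hs'
    rw [res_res]
    exact hs'
  local' := fun {O} s hs x hx ↦ by
    obtain ⟨W, h, hxW, hs⟩ := hs x hx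
    obtain ⟨V, g, hxV, hs'⟩ := hs x hxW
    rw [res_res] at hs'
    exact ⟨V, g.trans h, hxV, hs'⟩

lemma obj_eq [hF : F.IsQuasicoherent] (U : X.affineOpens) :
    S.sub.obj U.1 = Submodule.span Γ(X, U.1) (S.T U) := by
  refine le_antisymm (fun s hs ↦ mem_span_of_locally U.2 _ s fun x hx ↦ ?_)
    (fun s hs x hx ↦ ⟨U, le_rfl, hx, by rw [res_self]; exact hs⟩)
  obtain ⟨V, h, hxV, hs⟩ := hs x hx
  exact ⟨V.1, h, hxV, by rw [S.span_eq h]; exact hs⟩

lemma isQCoh [hF : F.IsQuasicoherent] : Coh.IsQCoh S.sub.toModules := by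
  refine isQCoh_iff_isLoc.mpr fun U ↦ ⟨fun f t ↦ ?_, fun f s hs ↦ ?_⟩
  · have ht : t.1 ∈ S.sub.obj (⟨X.basicOpen f, U.2.basicOpen f⟩ : X.affineOpens).1 := t.2
    rw [S.obj_eq, ← S.span_eq (U := U) (X.basicOpen_le f)] at ht
    obtain ⟨n, p, hp, hpe⟩ := exists_pow_smul_mem_span U.2 f ht
    have hp' : p ∈ S.sub.obj U.1 := by rw [S.obj_eq]; exact hp
    exact ⟨n, ⟨p, hp'⟩, Subtype.ext hpe⟩
  · obtain ⟨n, hn⟩ := (isLoc_of_isQCoh U.2 (M := F)).exists_pow_smul_eq_zero f s.1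
      (congrArg Subtype.val hs)
    exact ⟨n, Subtype.ext hn⟩

end Stable

/-- The index of the sections in a saturated family. -/
abbrev Idx (X : Scheme.{u}) : Type u := List (X.affineOpens × ℕ)

lemma exists_lift_list [hF : F.IsQuasicoherent] {U V : X.affineOpens} (h : V.1 ≤ U.1) (t : Γ(F, V.1)) :
    ∃ l : List Γ(F, U.1), t ∈ Submodule.span Γ(X, V.1) (res F h '' {a | a ∈ l}) := by
  classical
  have hmem : t ∈ Submodule.span Γ(X, V.1) (res F h '' Set.univ) :=
    mem_span_of_locally V.2 _ t fun x hx ↦ by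
      obtain ⟨f, hf, hxf⟩ := U.2.exists_basicOpen_le (⟨x, hx⟩ : V.1) (h hx)
      exact ⟨X.basicOpen f, hf, hxf, by
        rw [image_res_res]
        exact mem_span_basicOpen U.2 f Submodule.span_univ _⟩
  obtain ⟨T, hT, htT⟩ := Submodule.mem_span_finite_of_mem_span hmem
  choose pre hpre using fun (b : Γ(F, V.1)) (hb : b ∈ T) ↦ hT hb
  refine ⟨T.attach.toList.map fun b ↦ pre b.1 b.2, Submodule.span_mono ?_ htT⟩
  intro b hb
  exact ⟨pre b hb, List.mem_map.mpr ⟨⟨b, hb⟩, Finset.mem_toList.mpr (Finset.mem_attach _ _), rfl⟩,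
    (hpre b hb).2⟩

open scoped Classical in
/-- The closure of one section under restrictions and lifts. -/
def walk [hF : F.IsQuasicoherent] (U₀ : X.affineOpens) (s₀ : Γ(F, U₀.1)) :
    Idx X → Σ U : X.affineOpens, Γ(F, U.1)
  | [] => ⟨U₀, s₀⟩
  | (V, k) :: w =>
    let p := walk U₀ s₀ w
    ⟨V, if h : V.1 ≤ p.1.1 ∧ k = 0 then res F h.1 p.2
      else if h' : p.1.1 ≤ V.1 then
        (exists_lift_list (U := V) (V := p.1) h' p.2).choose.getD (k - 1) 0
      else 0⟩

open scoped Classical in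
/-- The sections of the saturation on one affine open. -/
def gen [hF : F.IsQuasicoherent] (U₀ : X.affineOpens) (s₀ : Γ(F, U₀.1)) (U : X.affineOpens)
    (w : Idx X) : Γ(F, U.1) :=
  if h : (walk U₀ s₀ w).1 = U then h ▸ (walk U₀ s₀ w).2 else 0

lemma gen_eq [hF : F.IsQuasicoherent] (U₀ : X.affineOpens) (s₀ : Γ(F, U₀.1)) (w : Idx X) :
    gen U₀ s₀ (walk U₀ s₀ w).1 w = (walk U₀ s₀ w).2 := by
  rw [gen, dif_pos rfl]

lemma gen_cases [hF : F.IsQuasicoherent] (U₀ : X.affineOpens) (s₀ : Γ(F, U₀.1)) (U : X.affineOpens)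
    (w : Idx X) : gen U₀ s₀ U w = 0 ∨ (walk U₀ s₀ w).1 = U := by
  rw [gen]
  split_ifs with h
  · exact Or.inr h
  · exact Or.inl rfl

/-- The saturation of one section. -/
def saturation [hF : F.IsQuasicoherent] (U₀ : X.affineOpens) (s₀ : Γ(F, U₀.1)) : Stable F where
  T U := Set.range (gen U₀ s₀ U)
  down := by
    rintro U V h _ ⟨w, rfl⟩
    rcases gen_cases U₀ s₀ U w with h0 | h0
    · rw [h0, map_zero]; exact zero_mem _
    subst h0
    rw [gen_eq]
    refine Submodule.subset_span ⟨(V, 0) :: w, ?_⟩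
    have h1 : (walk U₀ s₀ ((V, 0) :: w)).2 = res F h (walk U₀ s₀ w).2 := dif_pos ⟨h, rfl⟩
    rw [← h1]
    exact gen_eq U₀ s₀ ((V, 0) :: w)
  up := by
    rintro U V h _ ⟨w, rfl⟩
    rcases gen_cases U₀ s₀ V w with h0 | h0
    · rw [h0]; exact zero_mem _
    subst h0
    rw [gen_eq]
    let l := (exists_lift_list (U := U) (V := (walk U₀ s₀ w).1) h (walk U₀ s₀ w).2).choose
    refine Submodule.span_mono ?_
      (exists_lift_list (U := U) (V := (walk U₀ s₀ w).1) h (walk U₀ s₀ w).2).choose_spec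
    rintro _ ⟨a, ha, rfl⟩
    obtain ⟨i, hi, rfl⟩ := List.mem_iff_getElem.mp (show a ∈ l from ha)
    refine ⟨_, ⟨(U, i + 1) :: w, ?_⟩, rfl⟩
    have h1 : (walk U₀ s₀ ((U, i + 1) :: w)).2 = l.getD (i + 1 - 1) 0 :=
      (dif_neg fun h' ↦ Nat.succ_ne_zero i h'.2).trans (dif_pos h)
    rw [Nat.add_sub_cancel, show l.getD i 0 = l[i] by simp [List.getD, hi]] at h1
    rw [← h1]
    exact gen_eq U₀ s₀ ((U, i + 1) :: w)

lemma mem_saturation [hF : F.IsQuasicoherent] (U₀ : X.affineOpens) (s₀ : Γ(F, U₀.1)) :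
    s₀ ∈ (saturation U₀ s₀).sub.obj U₀.1 := by
  rw [Stable.obj_eq]
  exact Submodule.subset_span ⟨[], gen_eq U₀ s₀ []⟩

end Groth.Agent.QCGen
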